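import Groth.Agent.Lib.DiagPow.Tensor
import Groth.Agent.Lib.BirMap96.DiffRank
import Groth.Agent.Lib.Dim.Basic
import Mathlib.RingTheory.Smooth.StandardSmooth
import Mathlib.RingTheory.IntegralClosure.IntegrallyClosed
import Mathlib.RingTheory.Kaehler.Basic
import Mathlib.Algebra.CharP.Algebra

/-! Powers of pairwise diagonal ideals in a tensor power of a smooth algebra in characteristic zero. -/

universe u w

open TensorProduct KaehlerDifferential Groth.Agent.Lib.DiagPow.Tensor

namespace Groth.Agent.Lib.DiagPow.Powers

variable {k : Type u} [Field k] {A : Type u} [CommRing A] [Algebra k A]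
variable {ι : Type} [Fintype ι] [DecidableEq ι]

noncomputable def δ (i j : ι) (a : A) : TP k A ι := single i a - single j a

variable (k A) in
def diag (i j : ι) : Ideal (TP k A ι) := Ideal.span (Set.range (δ (k := k) (A := A) i j))

theorem δ_mem (i j : ι) (a : A) : δ i j a ∈ diag k A i j := Ideal.subset_span ⟨a, rfl⟩

noncomputable def retract (i j : ι) : TP k A ι →ₐ[k] TP k A ι :=
  liftFam fun c => if c = j then single i else single c

theorem sub_retract_mem (i j : ι) (x : TP k A ι) : x - retract i j x ∈ diag k A i j := by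
  rw [← Ideal.Quotient.eq]
  have : (Ideal.Quotient.mkₐ k (diag k A i j)).comp (retract i j) =
      Ideal.Quotient.mkₐ k (diag k A i j) := by
    refine hom_ext fun c a => ?_
    rcases eq_or_ne c j with rfl | hc
    · simp only [retract, AlgHom.comp_apply, liftFam_single, if_true]
      exact Ideal.Quotient.eq.2 (δ_mem i c a)
    · simp [retract, hc]
  exact (DFunLike.congr_fun this x).symm

theorem diag_eq_ker {i j : ι} (hij : i ≠ j) :
    diag k A i j = RingHom.ker (retract (k := k) (A := A) i j) := by
  refine le_antisymm (Ideal.span_le.2 ?_) fun x hx => ?_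
  · rintro _ ⟨a, rfl⟩
    simp [δ, retract, hij]
  · have := sub_retract_mem i j x
    rwa [(RingHom.mem_ker).1 hx, sub_zero] at this

theorem diag_isPrime [IsDomain (TP k A ι)] {i j : ι} (hij : i ≠ j) : (diag k A i j).IsPrime := by
  rw [diag_eq_ker hij]; exact RingHom.ker_isPrime _

theorem single_mem_diag_iff (χ : A →ₐ[k] k) {i j : ι} (hij : i ≠ j) {c : ι} {a : A} :
    single c a ∈ diag k A i j ↔ a = 0 := by
  rw [diag_eq_ker hij, RingHom.mem_ker]
  have h : ∀ d : ι, (single (k := k) d a = 0 ↔ a = 0) := fun d =>
    map_eq_zero_iff _ (single_injective χ d)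
  rcases eq_or_ne c j with rfl | hc
  · simpa [retract] using h i
  · simpa [retract, hc] using h c

theorem der_δ (D : Derivation k A A) {i j : ι} (hij : i ≠ j) (a : A) :
    der D i (δ i j a) = single i (D a) := by
  simp [δ, der_single_self, der_single_ne D hij.symm]

theorem deriv_mem_pow {R : Type u} [CommRing R] [Algebra k R] (D : Derivation k R R) (J : Ideal R) :
    ∀ (n : ℕ) {x : R}, x ∈ J ^ (n + 1) → D x ∈ J ^ n := by
  intro n
  induction n with
  | zero => intro x _; simp
  | succ n ih =>
    intro x hx
    rw [pow_succ'] at hx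
    induction hx using Submodule.mul_induction_on' with
    | mem_mul_mem a ha b hb =>
      rw [Derivation.leibniz, smul_eq_mul, smul_eq_mul]
      refine Ideal.add_mem _ ?_ (Ideal.mul_mem_right _ _ hb)
      rw [pow_succ']
      exact Ideal.mul_mem_mul ha (ih hb)
    | add a _ b _ ha hb => rw [map_add]; exact Ideal.add_mem _ ha hb

variable (k A) in
/-- A dual basis of the differentials. -/
theorem exists_coords [Algebra.Smooth k A] : ∃ (T : Finset A) (D : A → Derivation k A A),
    ∀ a : A, KaehlerDifferential.D k A a =
      ∑ b ∈ T, D b a • KaehlerDifferential.D k A b := by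
  classical
  have hs : Function.Surjective (Finsupp.linearCombination A (KaehlerDifferential.D k A)) := by
    rw [← LinearMap.range_eq_top, Finsupp.range_linearCombination,
      KaehlerDifferential.span_range_derivation]
  obtain ⟨s, hs'⟩ := Module.projective_lifting_property _ LinearMap.id hs
  obtain ⟨S, hS⟩ := (Module.Finite.fg_top : (⊤ : Submodule A (Ω[A⁄k])).FG)
  refine ⟨S.biUnion fun ω => (s ω).support,
    fun b => ((Finsupp.lapply b).comp s).compDer (KaehlerDifferential.D k A), fun a => ?_⟩
  have hsupp : ∀ ω : Ω[A⁄k], s ω ∈ Finsupp.supported A A (↑(S.biUnion fun ω => (s ω).support) : Set A) := by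
    intro ω
    have : ω ∈ Submodule.span A (S : Set (Ω[A⁄k])) := hS ▸ Submodule.mem_top
    induction this using Submodule.span_induction with
    | mem x hx =>
      rw [Finsupp.mem_supported]
      intro y hy
      exact Finset.mem_coe.2 (Finset.mem_biUnion.2 ⟨x, hx, hy⟩)
    | zero => simp
    | add x y _ _ hx hy => rw [map_add]; exact Submodule.add_mem _ hx hy
    | smul c x _ hx => rw [map_smul]; exact Submodule.smul_mem _ c hx
  have h := DFunLike.congr_fun hs' (KaehlerDifferential.D k A a)
  rw [LinearMap.comp_apply, LinearMap.id_apply, Finsupp.linearCombination_apply,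
    Finsupp.sum_of_support_subset _ ((Finsupp.mem_supported _ _).1 (hsupp _)) _ (by simp)] at h
  rw [← h]
  rfl

section Coords

variable {T : Finset A} {D : A → Derivation k A A}
  (hD : ∀ a : A, KaehlerDifferential.D k A a = ∑ b ∈ T, D b a • KaehlerDifferential.D k A b)

include hD in
theorem deriv_eq {M : Type u} [AddCommGroup M] [Module A M] [Module k M] [IsScalarTower k A M]
    (G : Derivation k A M) (a : A) : G a = ∑ b ∈ T, D b a • G b := by
  have h := congrArg G.liftKaehlerDifferential (hD a)
  simpa using h

include hD in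
theorem δ_sub_sum_mem (i j : ι) (a : A) :
    δ i j a - ∑ b ∈ T, single i (D b a) * δ i j b ∈ diag k A i j ^ 2 := by
  set J := diag k A i j ^ 2
  let f : A →ₐ[k] TP k A ι ⧸ J := (Ideal.Quotient.mkₐ k J).comp (single i)
  letI : Algebra A (TP k A ι ⧸ J) := f.toRingHom.toAlgebra
  haveI : IsScalarTower k A (TP k A ι ⧸ J) := IsScalarTower.of_algebraMap_eq fun c =>
    (f.commutes c).symm
  let G : Derivation k A (TP k A ι ⧸ J) := Derivation.mk'
    ((Ideal.Quotient.mkₐ k J).toLinearMap ∘ₗ
      ((single i).toLinearMap - (single j).toLinearMap))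
    (fun a b => by
      change Ideal.Quotient.mk J (single i (a * b) - single j (a * b)) =
        Ideal.Quotient.mk J (single i a) * Ideal.Quotient.mk J (single i b - single j b) +
          Ideal.Quotient.mk J (single i b) * Ideal.Quotient.mk J (single i a - single j a)
      rw [← map_mul, ← map_mul, ← map_add, Ideal.Quotient.eq]
      have : δ (k := k) i j a * δ i j b ∈ J := by
        simpa [J, pow_two] using Ideal.mul_mem_mul (δ_mem i j a) (δ_mem i j b)
      rw [← neg_mem_iff]
      convert this using 1
      simp only [δ, map_mul]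
      ring)
  have h := deriv_eq hD G a
  rw [← Ideal.Quotient.eq, map_sum]
  refine h.trans (Finset.sum_congr rfl fun b _ => ?_)
  rw [map_mul]
  rfl

variable (T D) in
noncomputable def euler (i j : ι) : Derivation k (TP k A ι) (TP k A ι) :=
  ∑ b ∈ T, δ (k := k) i j b • der (D b) i

theorem euler_apply (i j : ι) (x : TP k A ι) :
    euler T D i j x = ∑ b ∈ T, δ (k := k) i j b * der (D b) i x := by
  rw [euler, ← Derivation.coeFnAddMonoidHom_apply, map_sum, Finset.sum_apply]
  rfl

theorem euler_mem (i j : ι) (x : TP k A ι) : euler T D i j x ∈ diag k A i j := by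
  rw [euler_apply]
  exact Ideal.sum_mem _ fun b _ => Ideal.mul_mem_right _ _ (δ_mem i j b)

include hD in
theorem euler_δ {i j : ι} (hij : i ≠ j) (a : A) :
    euler T D i j (δ i j a) - δ i j a ∈ diag k A i j ^ 2 := by
  rw [← neg_mem_iff, neg_sub, euler_apply]
  convert δ_sub_sum_mem hD i j a using 3 with b
  rw [der_δ _ hij, mul_comm]

include hD in
theorem euler_sub {i j : ι} (hij : i ≠ j) : ∀ (n : ℕ) {x : TP k A ι}, x ∈ diag k A i j ^ n →
    euler T D i j x - (n : TP k A ι) * x ∈ diag k A i j ^ (n + 1) := by
  have h1 : ∀ {x : TP k A ι}, x ∈ diag k A i j →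
      euler T D i j x - x ∈ diag k A i j ^ 2 := by
    intro x hx
    induction hx using Submodule.span_induction with
    | mem x hx => obtain ⟨a, rfl⟩ := hx; exact euler_δ hD hij a
    | zero => simp
    | add x y _ _ hx hy => rw [map_add, add_sub_add_comm]; exact Ideal.add_mem _ hx hy
    | smul c x hx' hx =>
      rw [smul_eq_mul, Derivation.leibniz, smul_eq_mul, smul_eq_mul,
        show c * euler T D i j x + x * euler T D i j c - c * x =
          c * (euler T D i j x - x) + x * euler T D i j c by ring]
      refine Ideal.add_mem _ (Ideal.mul_mem_left _ _ hx) ?_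
      rw [pow_two]
      exact Ideal.mul_mem_mul hx' (euler_mem i j c)
  intro n
  induction n with
  | zero => intro x _; simpa using euler_mem i j x
  | succ n ih =>
    intro x hx
    rw [pow_succ'] at hx
    induction hx using Submodule.mul_induction_on' with
    | mem_mul_mem a ha b hb =>
      rw [Derivation.leibniz, smul_eq_mul, smul_eq_mul,
        show a * euler T D i j b + b * euler T D i j a - ((n + 1 : ℕ) : TP k A ι) * (a * b) =
          a * (euler T D i j b - (n : TP k A ι) * b) + b * (euler T D i j a - a) by
          push_cast; ring]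
      refine Ideal.add_mem _ ?_ ?_
      · rw [pow_succ' _ (n + 1)]; exact Ideal.mul_mem_mul ha (ih hb)
      · rw [show n + 1 + 1 = n + 2 from rfl, pow_add]
        exact Ideal.mul_mem_mul hb (h1 ha)
    | add a _ b _ ha hb => rw [map_add, mul_add, add_sub_add_comm]; exact Ideal.add_mem _ ha hb

include hD in
theorem primary [CharZero k] [IsDomain (TP k A ι)] {i j : ι} (hij : i ≠ j) :
    ∀ (n : ℕ) {s x : TP k A ι}, s ∉ diag k A i j → s * x ∈ diag k A i j ^ n →
      x ∈ diag k A i j ^ n := by
  haveI := diag_isPrime (k := k) (A := A) hij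
  intro n
  induction n with
  | zero => intros; simp
  | succ n ih =>
    intro s x hs hsx
    have hxn : x ∈ diag k A i j ^ n := ih hs (Ideal.pow_le_pow_right n.le_succ hsx)
    rcases Nat.eq_zero_or_pos n with rfl | hn
    · rw [zero_add, pow_one] at hsx ⊢
      exact ((Ideal.IsPrime.mem_or_mem inferInstance hsx)).resolve_left hs
    have hder : ∀ b, der (D b) i x ∈ diag k A i j ^ n := fun b => ih hs (by
      have h := deriv_mem_pow (der (D b) i) _ n hsx
      rw [Derivation.leibniz, smul_eq_mul, smul_eq_mul] at h
      have := Ideal.sub_mem _ h (Ideal.mul_mem_right (der (D b) i s) _ hxn)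
      rwa [add_sub_cancel_right] at this)
    have hE : euler T D i j x ∈ diag k A i j ^ (n + 1) := by
      rw [euler_apply, pow_succ']
      exact Ideal.sum_mem _ fun b _ => Ideal.mul_mem_mul (δ_mem i j b) (hder b)
    have := Ideal.sub_mem _ hE (euler_sub hD hij n hxn)
    rw [sub_sub_cancel] at this
    have hu : IsUnit ((n : TP k A ι)) := by
      rw [← map_natCast (algebraMap k (TP k A ι))]
      exact (IsUnit.mk0 _ (by exact_mod_cast hn.ne')).map _
    exact (Ideal.unit_mul_mem_iff_mem _ hu).1 this

include hD in
/-- If all `2 × 2` minors of the matrix `(D b' b)` vanish, the differentials have rank at most one. -/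
theorem finrank_kaehler_le_one [IsDomain A]
    (h : ∀ l ∈ T, ∀ l' ∈ T, ∀ b ∈ T, ∀ b' ∈ T, D l b * D l' b' = D l b' * D l' b) :
    Module.finrank (FractionRing A) (Ω[FractionRing A⁄k]) ≤ 1 := by
  classical
  let K := FractionRing A
  let d : A → Ω[K⁄k] := fun a => KaehlerDifferential.D k K (algebraMap A K a)
  have hd : ∀ a, d a = ∑ b ∈ T, algebraMap A K (D b a) • d b := by
    intro a
    have := congrArg (KaehlerDifferential.map k k A K) (hD a)
    simpa [d, map_sum, algebraMap_smul] using this
  have hspan : ∀ ω : Ω[K⁄k], ω ∈ Submodule.span K (d '' (T : Set A)) := by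
    intro ω
    have hA : ∀ a, d a ∈ Submodule.span K (d '' (T : Set A)) := fun a => hd a ▸
      Submodule.sum_mem _ fun b hb => Submodule.smul_mem _ _ (Submodule.subset_span ⟨b, hb, rfl⟩)
    have : ω ∈ Submodule.span K (Set.range (KaehlerDifferential.D k K)) :=
      KaehlerDifferential.span_range_derivation k K ▸ Submodule.mem_top
    refine (Submodule.span_le.2 ?_) this
    rintro _ ⟨x, rfl⟩
    obtain ⟨a, s, hs, rfl⟩ := IsFractionRing.div_surjective A x
    rw [SetLike.mem_coe, Derivation.leibniz_div]
    exact Submodule.smul_mem _ _ (Submodule.sub_mem _ (Submodule.smul_mem _ _ (hA a))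
      (Submodule.smul_mem _ _ (hA s)))
  by_cases hz : ∀ b ∈ T, ∀ l ∈ T, D l b = 0
  · refine finrank_le_one 0 fun ω => ⟨0, ?_⟩
    have : d '' (T : Set A) ⊆ {0} := by
      rintro _ ⟨b, hb, rfl⟩
      rw [Set.mem_singleton_iff, hd]
      exact Finset.sum_eq_zero fun l hl => by rw [hz b hb l hl, map_zero, zero_smul]
    have h0 := Submodule.span_mono this (hspan ω)
    rw [Submodule.span_zero_singleton, Submodule.mem_bot] at h0
    simp [h0]
  · push Not at hz
    obtain ⟨b₀, hb₀, l₀, hl₀, hne⟩ := hz
    have hne' : algebraMap A K (D l₀ b₀) ≠ 0 :=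
      fun e => hne (FaithfulSMul.algebraMap_injective A K (e.trans (map_zero _).symm))
    refine finrank_le_one (d b₀) fun ω => ?_
    have hb : ∀ b ∈ T, d b = (algebraMap A K (D l₀ b) / algebraMap A K (D l₀ b₀)) • d b₀ := by
      intro b hb
      rw [hd b, hd b₀, Finset.smul_sum]
      refine Finset.sum_congr rfl fun l hl => ?_
      rw [smul_smul]
      congr 1
      rw [div_mul_eq_mul_div, eq_div_iff hne', ← map_mul, ← map_mul]
      congr 1
      rw [mul_comm (D l b), mul_comm (D l₀ b)]
      rw [mul_comm (D l b₀) (D l₀ b)]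
      exact (h l₀ hl₀ l hl b hb b₀ hb₀).symm
    have : ω ∈ Submodule.span K {d b₀} := by
      refine (Submodule.span_le.2 ?_) (hspan ω)
      rintro _ ⟨b, hb', rfl⟩
      rw [SetLike.mem_coe, hb b hb']
      exact Submodule.smul_mem _ _ (Submodule.mem_span_singleton_self _)
    exact Submodule.mem_span_singleton.1 this

end Coords

theorem two_le_finrank_kaehler [IsDomain A] [Algebra.Smooth k A] (hdim : ringKrullDim A = 2) :
    2 ≤ Module.finrank (FractionRing A) (Ω[FractionRing A⁄k]) := by
  haveI : Algebra.FiniteType k A := inferInstance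
  have h1 := Groth.Agent.Lib.Dim.Basic.trdeg_eq_trdegNat k A
  have h2 := Groth.Agent.Lib.Dim.Basic.ringKrullDim_eq_trdegNat k A
  rw [hdim] at h2
  have h3 : Groth.Agent.Lib.Dim.Basic.trdegNat k A = 2 := by exact_mod_cast h2.symm
  haveI : Algebra.IsAlgebraic A (FractionRing A) :=
    IsLocalization.isAlgebraic (FractionRing A) (nonZeroDivisors A)
  have h4 := trdeg_add_eq k A (A := FractionRing A)
  rw [trdeg_eq_zero (R := A) (A := FractionRing A), add_zero, h1, h3] at h4
  haveI : Algebra.EssFiniteType k (FractionRing A) := by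
    haveI : Algebra.EssFiniteType A (FractionRing A) :=
      Algebra.EssFiniteType.of_isLocalization _ (nonZeroDivisors A)
    exact Algebra.EssFiniteType.comp k A _
  have := Groth.Agent.Lib.BirMap96.DiffRank.trdeg_le_finrank_kaehler k (FractionRing A)
  rw [← h4] at this
  simpa using this

/-- Two elements with `m · diag ⊆ x R` force `m ∈ x R`. -/
theorem mem_span_of_mul_diag [CharZero k] [IsAlgClosed k] [IsDomain A] [Algebra.Smooth k A]
    (hdim : ringKrullDim A = 2) (χ : A →ₐ[k] k)
    [IsDomain (TP k A ι)] [IsNoetherianRing (TP k A ι)] [IsIntegrallyClosed (TP k A ι)]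
    {i j : ι} (hij : i ≠ j) {x m : TP k A ι} (hx : x ≠ 0)
    (h : ∀ u ∈ diag k A i j, u * m ∈ Ideal.span {x}) : m ∈ Ideal.span {x} := by
  classical
  let R := TP k A ι
  let K := FractionRing R
  let I := diag k A i j
  haveI := diag_isPrime (k := k) (A := A) hij
  by_cases hI : ∀ u ∈ I, ∀ w, u * m = x * w → w ∈ I
  · have hx' : algebraMap R K x ≠ 0 :=
      fun e => hx (FaithfulSMul.algebraMap_injective R K (e.trans (map_zero _).symm))
    let z : K := algebraMap R K m / algebraMap R K x
    let N : Submodule R K := Submodule.map (Algebra.linearMap R K) I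
    have hNfg : N.FG := (IsNoetherian.noetherian (I : Submodule R R)).map _
    have hzN : ∀ n ∈ N, z • n ∈ N := by
      rintro _ ⟨u, hu, rfl⟩
      obtain ⟨w, hw⟩ := Ideal.mem_span_singleton'.1 (h u hu)
      refine ⟨w, hI u hu w (by rw [← hw, mul_comm]), ?_⟩
      simp only [Algebra.linearMap_apply, smul_eq_mul, z]
      rw [div_mul_eq_mul_div, eq_div_iff hx', ← map_mul, ← map_mul, hw, mul_comm]
    have hNe : N ≠ ⊥ := by
      obtain ⟨a, ha⟩ : ∃ a : A, δ (k := k) i j a ≠ 0 := by
        by_contra! hall
        obtain ⟨T, D, hD⟩ := exists_coords k A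
        have hzero : ∀ b ∈ T, ∀ l ∈ T, D l b = 0 := fun b _ l _ => by
          have := der_δ (D l) hij b
          rw [hall b, map_zero] at this
          exact (map_eq_zero_iff _ (single_injective χ i)).1 this.symm
        have h1 := finrank_kaehler_le_one hD fun l hl l' hl' b hb b' hb' => by
          rw [hzero b hb l hl, hzero b' hb' l hl, zero_mul, zero_mul]
        have h2 := two_le_finrank_kaehler (k := k) hdim
        omega
      refine (Submodule.ne_bot_iff _).2 ⟨algebraMap R K (δ i j a), ⟨_, δ_mem i j a, rfl⟩, ?_⟩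
      exact fun e => ha (FaithfulSMul.algebraMap_injective R K (e.trans (map_zero _).symm))
    have hint : IsIntegral R z := isIntegral_of_smul_mem_submodule N hNe hNfg z hzN
    obtain ⟨r, hr⟩ := IsIntegrallyClosed.isIntegral_iff.1 hint
    refine Ideal.mem_span_singleton'.2 ⟨r, FaithfulSMul.algebraMap_injective R K ?_⟩
    rw [map_mul, hr]
    exact div_mul_cancel₀ _ hx'
  · exfalso
    push Not at hI
    obtain ⟨t, ht, v, htv, hv⟩ := hI
    obtain ⟨T, D, hD⟩ := exists_coords k A
    let cw : A → TP k A ι := fun b => (Ideal.mem_span_singleton'.1 (h _ (δ_mem i j b))).choose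
    have hle := finrank_kaehler_le_one hD fun l hl l' hl' b hb b' hb' => by
      rw [← sub_eq_zero]
      apply (single_mem_diag_iff (k := k) χ hij (c := i)).1
      have hk : ∀ l b, single i (D l b) * v - der (D l) i t * cw b ∈ I := by
        intro l b
        have hc : cw b * x = δ i j b * m :=
          (Ideal.mem_span_singleton'.1 (h _ (δ_mem (k := k) i j b))).choose_spec
        have he : δ i j b * v = t * cw b := mul_left_cancel₀ hx (by
          linear_combination (-δ (k := k) i j b) * htv - t * hc)
        have hd := congrArg (der (D l) i) he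
        simp only [Derivation.leibniz, smul_eq_mul, der_δ _ hij] at hd
        have : single i (D l b) * v - der (D l) i t * cw b =
            t * der (D l) i (cw b) - δ i j b * der (D l) i v := by linear_combination hd
        rw [this]
        exact Ideal.sub_mem _ (Ideal.mul_mem_right _ _ ht) (Ideal.mul_mem_right _ _ (δ_mem i j b))
      let q := Ideal.Quotient.mk I
      have e : ∀ l b, q (single i (D l b)) * q v = q (der (D l) i t) * q (cw b) := fun l b => by
        rw [← map_mul, ← map_mul]; exact Ideal.Quotient.eq.2 (hk l b)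
      have hv0 : q v ≠ 0 := fun e => hv (Ideal.Quotient.eq_zero_iff_mem.1 e)
      rw [← Ideal.Quotient.eq_zero_iff_mem, map_sub, map_mul, map_mul]
      change q (_ * _ - _ * _) = 0
      apply mul_left_cancel₀ (mul_ne_zero hv0 hv0)
      simp only [map_sub, map_mul, mul_zero]
      linear_combination (q (single i (D l' b')) * q v) * e l b +
        (q (der (D l) i t) * q (cw b)) * e l' b' -
        ((q (single i (D l' b)) * q v) * e l b' + (q (der (D l) i t) * q (cw b')) * e l' b)
    have h2 := two_le_finrank_kaehler (k := k) hdim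
    omega

end Groth.Agent.Lib.DiagPow.Powers
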