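import Groth.Agent.H52.FBase.GeomPt
import Groth.Agent.Lib.Flat55.SmoothBCNormalization
import Mathlib.RingTheory.PiTensorProduct
import Mathlib.RingTheory.Smooth.Basic
import Mathlib.Algebra.TrivSqZeroExt.Basic
import Mathlib.RingTheory.Derivation.Basic

/-! Finite tensor powers of an algebra: lifts, retractions, derivations, domain, smoothness. -/

universe u v w

open TensorProduct

namespace Groth.Agent.Lib.DiagPow.Tensor

variable (k : Type u) [Field k] (A : Type u) [CommRing A] [Algebra k A]

abbrev TP (ι : Type w) : Type (max u w) := ⨂[k] _ : ι, A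

variable {k A} {ι : Type w} [Fintype ι] [DecidableEq ι]

noncomputable def single (i : ι) : A →ₐ[k] TP k A ι :=
  PiTensorProduct.singleAlgHom (R := k) (A := fun _ : ι => A) i

/-- The algebra map out of a tensor power given by one algebra map per factor. -/
noncomputable def liftFam {S : Type v} [CommRing S] [Algebra k S] (f : ι → A →ₐ[k] S) :
    TP k A ι →ₐ[k] S :=
  PiTensorProduct.liftAlgHom
    ((MultilinearMap.mkPiAlgebra k ι S).compLinearMap fun i => (f i).toLinearMap)
    (by simp) (by intro x y; simp [Finset.prod_mul_distrib])

@[simp] theorem liftFam_single {S : Type v} [CommRing S] [Algebra k S] (f : ι → A →ₐ[k] S) (i : ι)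
    (a : A) : liftFam f (single i a) = f i a := by
  rw [single, PiTensorProduct.singleAlgHom_apply, liftFam, PiTensorProduct.liftAlgHom_apply,
    PiTensorProduct.lift.tprod]
  simp only [MultilinearMap.compLinearMap_apply, AlgHom.toLinearMap_apply,
    MultilinearMap.mkPiAlgebra_apply]
  rw [Finset.prod_eq_single i]
  · simp
  · intro j _ hj
    simp [hj]
  · simp

theorem hom_ext {S : Type v} [CommRing S] [Algebra k S] {f g : TP k A ι →ₐ[k] S}
    (h : ∀ i a, f (single i a) = g (single i a)) : f = g :=
  PiTensorProduct.algHom_ext fun i => AlgHom.ext fun a => h i a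

theorem single_eq (i : ι) :
    single (k := k) (A := A) i = PiTensorProduct.singleAlgHom (R := k) (A := fun _ : ι => A) i := rfl

theorem single_injective (χ : A →ₐ[k] k) (i : ι) : Function.Injective (single (k := k) (A := A) i) := by
  intro a b h
  have := congrArg (liftFam (S := A) fun j => if j = i then AlgHom.id k A
    else (Algebra.ofId k A).comp χ) h
  simpa using this

/-- Any property stable under `k`-linear operations and products which holds on the factors. -/
theorem mem_of_single (T : Subalgebra k (TP k A ι)) (h : ∀ i a, single i a ∈ T) (x : TP k A ι) :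
    x ∈ T := by
  have : (T.val.comp (liftFam fun i => (single i).codRestrict T (h i))) = AlgHom.id k _ :=
    hom_ext fun i a => by simp
  have hx := DFunLike.congr_fun this x
  rw [AlgHom.id_apply] at hx
  rw [← hx]
  exact Subtype.mem _

/-- The infinitesimal map `a ↦ (a at i) + ε (D a at i)`. -/
noncomputable def epsHom (D : Derivation k A A) (i : ι) :
    A →ₐ[k] TrivSqZeroExt (TP k A ι) (TP k A ι) :=
  AlgHom.ofLinearMap
    { toFun := fun a => TrivSqZeroExt.inl (single i a) + TrivSqZeroExt.inr (single i (D a))
      map_add' := fun a b => by ext <;> simp [map_add]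
      map_smul' := fun c a => by ext <;> simp [map_smul] }
    (by ext <;> simp)
    (fun a b => by
      ext
      · simp
      · simp [Derivation.leibniz]
        ring)

noncomputable def extHom (D : Derivation k A A) (i : ι) :
    TP k A ι →ₐ[k] TrivSqZeroExt (TP k A ι) (TP k A ι) :=
  liftFam fun j => if j = i then epsHom D i
    else (TrivSqZeroExt.inlAlgHom k (TP k A ι) (TP k A ι)).comp (single j)

theorem fst_extHom (D : Derivation k A A) (i : ι) (x : TP k A ι) : (extHom D i x).fst = x := by
  have : (TrivSqZeroExt.fstHom k (TP k A ι) (TP k A ι)).comp (extHom D i) = AlgHom.id k _ := by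
    refine hom_ext fun j a => ?_
    rcases eq_or_ne j i with rfl | hj
    · simp [extHom, epsHom]
    · simp [extHom, hj]
  exact DFunLike.congr_fun this x

/-- The derivation of a tensor power induced by a derivation of the factor `i`. -/
noncomputable def der (D : Derivation k A A) (i : ι) : Derivation k (TP k A ι) (TP k A ι) :=
  Derivation.mk'
    { toFun := fun x => (extHom D i x).snd
      map_add' := fun x y => by simp [map_add]
      map_smul' := fun c x => by simp [map_smul] }
    (fun x y => by
      simp [fst_extHom]
      ring)

theorem der_single_self (D : Derivation k A A) (i : ι) (a : A) :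
    der D i (single i a) = single i (D a) := by
  simp [der, extHom, epsHom]

theorem der_single_ne (D : Derivation k A A) {i j : ι} (hj : j ≠ i) (a : A) :
    der D i (single j a) = 0 := by
  simp [der, extHom, hj]

variable (k A) in
/-- Splitting off the first factor. -/
noncomputable def consEquiv (n : ℕ) : TP k A (Fin (n + 1)) ≃ₐ[k] A ⊗[k] TP k A (Fin n) :=
  AlgEquiv.ofAlgHom
    (liftFam (Fin.cons Algebra.TensorProduct.includeLeft
      fun j => (Algebra.TensorProduct.includeRight (R := k) (A := A)).comp (single j)))
    (Algebra.TensorProduct.lift (single 0) (liftFam fun j => single j.succ)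
      (fun _ _ => Commute.all _ _))
    (by
      apply Algebra.TensorProduct.ext
      · ext a; simp
      · refine hom_ext fun i a => ?_
        simp)
    (by
      refine hom_ext fun i a => ?_
      cases i using Fin.cases <;> simp)

variable (k A) in
noncomputable def nilEquiv : TP k A (Fin 0) ≃ₐ[k] k :=
  AlgEquiv.ofAlgHom (liftFam fun i => i.elim0) (Algebra.ofId k _)
    (AlgHom.ext fun x => by simp) (hom_ext fun i => i.elim0)

theorem isDomain [IsAlgClosed k] [IsDomain A] : ∀ n : ℕ, IsDomain (TP k A (Fin n))
  | 0 => MulEquiv.isDomain _ (nilEquiv k A).toMulEquiv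
  | n + 1 => by
    haveI := isDomain n
    haveI := Groth.Agent.H52.FBase.GeomPt.isDomain_tensor_of_isAlgClosed (k := k) (A := A)
      (B := TP k A (Fin n))
    exact MulEquiv.isDomain _ (consEquiv k A n).toMulEquiv

theorem smooth [Algebra.Smooth k A] : ∀ n : ℕ, Algebra.Smooth k (TP k A (Fin n))
  | 0 => Algebra.Smooth.of_equiv (nilEquiv k A).symm
  | n + 1 => by
    haveI := smooth n
    haveI : Algebra.Smooth k (A ⊗[k] TP k A (Fin n)) := Algebra.Smooth.comp k A _
    exact Algebra.Smooth.of_equiv (consEquiv k A n).symm

theorem isIntegrallyClosed [IsAlgClosed k] [IsDomain A] [Algebra.Smooth k A] (n : ℕ) :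
    IsIntegrallyClosed (TP k A (Fin n)) := by
  haveI := isDomain (k := k) (A := A) n
  haveI := smooth (k := k) (A := A) n
  exact Flat55.SmoothBCNormalization.isIntegrallyClosed_of_smooth k

end Groth.Agent.Lib.DiagPow.Tensor
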